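import Mathlib
import Cfsg.Prelude
import Cfsg.Agent.Lib.Helper5.Wall3
import Cfsg.Agent.Lib.Helper5.SLClass.Defs
import Cfsg.Agent.Lib.Helper5.GLClass.TypeMap

set_option autoImplicit false
set_option linter.unusedSectionVars false

/-!
# The number of conjugacy classes of `SU_n(q)` (S2481): definitions

`K` is a field with `q²` elements, `σ = powQ hK : x ↦ x^q`, `H = Cfsg.hermForm n K q`.
* `tl hK P` : the (normalised) conjugate reciprocal `σ(P(0))⁻¹ · X^d · P^σ(1/X)` of a polynomial;
  the roots of `tl P` are the `λ^{-q}`, `λ` a root of `P`.  `P` is *self-conjugate-reciprocal* if `tl hK P = P`.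
* `muQ K q` : the group of `(q+1)`-th roots of unity of `K` (the determinants of `GU_n(q)`).
* `detU hK`, `suToGU` : `det : GU →* μ` and the inclusion `SU →* GU`.
* `PolyDU`, `ParU`, `parUFinset` : the self-conjugate-reciprocal members of helper5's `PolyD`, `Par`, `parFinset`.
* `NU`, `UN`, `PLU` : the counting functions (`Σ_n UN q n n uⁿ = ∏ (1+uⁱ)/(1-quⁱ)`).
* `perpU W` : the orthogonal of a subspace with respect to `H`.
-/

namespace Cfsg.Agent.Lib.Helper4.SUClass

open Polynomial Cfsg.Agent.S0278 Cfsg.Agent.Lib.Helper5.GLClass Cfsg.Agent.Lib.Helper5.SLClass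
open Cfsg.Agent.Lib.Helper1.HermCount

universe u

variable {K : Type u} [Field K] [Fintype K] {q : ℕ}

/-- the normalised conjugate reciprocal polynomial -/
noncomputable def tl (hK : Fintype.card K = q ^ 2) (P : K[X]) : K[X] :=
  C ((powQ hK (P.coeff 0))⁻¹) * (P.map (powQ hK)).reverse

/-- the `(q+1)`-th roots of unity -/
def muQ (K : Type u) [Field K] (q : ℕ) : Subgroup Kˣ := (powMonoidHom (q + 1) : Kˣ →* Kˣ).ker

theorem mem_muQ (x : Kˣ) : x ∈ muQ K q ↔ x ^ (q + 1) = 1 := by
  unfold muQ
  rw [MonoidHom.mem_ker, powMonoidHom_apply]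

/-- the determinant of a unitary matrix is a `(q+1)`-th root of unity -/
theorem det_mem_muQ (hK : Fintype.card K = q ^ 2) {n : ℕ} (g : Matrix.GeneralLinearGroup (Fin n) K)
    (hg : g ∈ Cfsg.GU n K q) : Matrix.GeneralLinearGroup.det g ∈ muQ K q := by
  rw [mem_muQ]
  apply Units.ext
  have h := nrm_det hK (g : Matrix (Fin n) (Fin n) K) (fun u v => hg u v)
  unfold nrm at h
  rw [Units.val_pow_eq_pow_val, Matrix.GeneralLinearGroup.val_det_apply, pow_succ', Units.val_one]
  exact h

/-- `det : GU_n(q) →* μ_{q+1}` -/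
noncomputable def detU (hK : Fintype.card K = q ^ 2) (n : ℕ) : ↥(Cfsg.GU n K q) →* ↥(muQ K q) where
  toFun g := ⟨Matrix.GeneralLinearGroup.det (g : Matrix.GeneralLinearGroup (Fin n) K),
    det_mem_muQ hK _ g.2⟩
  map_one' := by
    apply Subtype.ext
    simp
  map_mul' a b := by
    apply Subtype.ext
    simp

theorem detU_coe (hK : Fintype.card K = q ^ 2) (n : ℕ) (g : ↥(Cfsg.GU n K q)) :
    ((detU hK n g : ↥(muQ K q)) : Kˣ) =
      Matrix.GeneralLinearGroup.det (g : Matrix.GeneralLinearGroup (Fin n) K) := rfl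

/-- the inclusion `SU_n(q) →* GU_n(q)` -/
noncomputable def suToGU (n : ℕ) (K : Type u) [Field K] (q : ℕ) :
    ↥(Cfsg.SU n K q) →* ↥(Cfsg.GU n K q) where
  toFun g := ⟨Matrix.SpecialLinearGroup.toGL (g : Matrix.SpecialLinearGroup (Fin n) K),
    fun u v => g.2 u v⟩
  map_one' := by
    apply Subtype.ext
    simp
  map_mul' a b := by
    apply Subtype.ext
    simp

theorem suToGU_coe (n : ℕ) (g : ↥(Cfsg.SU n K q)) :
    ((suToGU n K q g : ↥(Cfsg.GU n K q)) : Matrix.GeneralLinearGroup (Fin n) K) =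
      Matrix.SpecialLinearGroup.toGL (g : Matrix.SpecialLinearGroup (Fin n) K) := rfl

/-- the self-conjugate-reciprocal monic polynomials of degree `d` with nonzero constant term -/
def PolyDU (hK : Fintype.card K = q ^ 2) (d : ℕ) : Set K[X] :=
  {f | f ∈ PolyD K d ∧ tl hK f = f}

/-- the unitary parameter set -/
def ParU (hK : Fintype.card K = q ^ 2) (m n : ℕ) : Set (Fin m → K[X]) :=
  {f | f ∈ Par K m n ∧ ∀ j, tl hK (f j) = f j}

open scoped Classical in
/-- the unitary parameter set as a finset -/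
noncomputable def parUFinset (hK : Fintype.card K = q ^ 2) (n : ℕ) : Finset (Fin n → K[X]) :=
  (parFinset K n).filter (fun f => ∀ j, tl hK (f j) = f j)

theorem mem_parUFinset (hK : Fintype.card K = q ^ 2) {n : ℕ} (f : Fin n → K[X]) :
    f ∈ parUFinset hK n ↔ f ∈ ParU hK n n := by
  classical
  unfold parUFinset ParU
  rw [Finset.mem_filter, mem_parFinset]
  rfl

/-- the number of self-conjugate-reciprocal monic polynomials of degree `d` (nonzero constant term) -/
def NU (q d : ℕ) : ℕ := if d = 0 then 1 else q ^ d + q ^ (d - 1)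

/-- the number of sequences `(f_1, …, f_m)` of such polynomials with `Σ i deg f_i = n` -/
def UN (q : ℕ) : ℕ → ℕ → ℕ
  | 0, n => if n = 0 then 1 else 0
  | m + 1, n => ∑ d ∈ Finset.range (n / (m + 1) + 1), NU q d * UN q m (n - (m + 1) * d)

/-- the number of unitary parameters whose support consists of multiples of `l` -/
def PLU (q n l : ℕ) : ℕ := if l ∣ n then UN q (n / l) (n / l) else 0

/-- the orthogonal of a subspace for the Hermitian form `Σ uᵢ vᵢ^q` -/
def perpU {n : ℕ} (q : ℕ) (W : Submodule K (Fin n → K)) : Submodule K (Fin n → K) where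
  carrier := {v | ∀ w ∈ W, Cfsg.hermForm n K q v w = 0}
  add_mem' {a b} ha hb := by
    intro w hw
    have h1 := ha w hw
    have h2 := hb w hw
    unfold Cfsg.hermForm at h1 h2 ⊢
    simp only [Pi.add_apply, add_mul, Finset.sum_add_distrib, h1, h2, add_zero]
  zero_mem' := by
    intro w _
    unfold Cfsg.hermForm
    simp
  smul_mem' c a ha := by
    intro w hw
    have h1 := ha w hw
    unfold Cfsg.hermForm at h1 ⊢
    simp only [Pi.smul_apply, smul_eq_mul, mul_assoc, ← Finset.mul_sum, h1, mul_zero]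

theorem mem_perpU {n : ℕ} (W : Submodule K (Fin n → K)) (v : Fin n → K) :
    v ∈ perpU q W ↔ ∀ w ∈ W, Cfsg.hermForm n K q v w = 0 := Iff.rfl

/-- realises the unfolding lemmas of the definitions above in this file -/
theorem su_defs_realize : True := by
  have := @tl.eq_1.{0}
  have := @tl.eq_def.{0}
  have := @muQ.eq_1.{0}
  have := @muQ.eq_def.{0}
  have := @detU.eq_1.{0}
  have := @detU.eq_def.{0}
  have := @suToGU.eq_1.{0}
  have := @suToGU.eq_def.{0}
  have := @PolyDU.eq_1.{0}
  have := @PolyDU.eq_def.{0}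
  have := @ParU.eq_1.{0}
  have := @ParU.eq_def.{0}
  have := @parUFinset.eq_1.{0}
  have := @parUFinset.eq_def.{0}
  have := @NU.eq_1
  have := @NU.eq_def
  have := @UN.eq_1
  have := @UN.eq_2
  have := @UN.eq_def
  have := @PLU.eq_1
  have := @PLU.eq_def
  have := @perpU.eq_1.{0}
  have := @perpU.eq_def.{0}
  trivial

end Cfsg.Agent.Lib.Helper4.SUClass
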