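import Mathlib
import Cfsg.Agent.Lib.Helper4.SUClass.Defs

set_option autoImplicit false
set_option linter.unusedSectionVars false
set_option linter.unusedVariables false

/-! # S2481 PK-TL : algebra of the conjugate reciprocal `tl` -/

namespace Cfsg.Agent.Lib.Helper4.SUClass

open Polynomial Cfsg.Agent.S0278 Cfsg.Agent.Lib.Helper5.GLClass Cfsg.Agent.Lib.Helper5.SLClass
open Cfsg.Agent.Lib.Helper5.Wall

universe u

variable {K : Type u} [Field K] [Fintype K] {q : ℕ}

namespace PkTL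

theorem map_natDegree (hK : Fintype.card K = q ^ 2) (P : K[X]) :
    (P.map (powQ hK)).natDegree = P.natDegree :=
  natDegree_map_eq_of_injective (powQ hK).injective P

theorem map_coeff_zero_ne (hK : Fintype.card K = q ^ 2) {P : K[X]} (h0 : P.coeff 0 ≠ 0) :
    (P.map (powQ hK)).coeff 0 ≠ 0 := by
  rw [coeff_map]
  exact (map_ne_zero (powQ hK)).2 h0

theorem rev_natDegree (hK : Fintype.card K = q ^ 2) {P : K[X]} (h0 : P.coeff 0 ≠ 0) :
    ((P.map (powQ hK)).reverse).natDegree = P.natDegree := by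
  rw [reverse_natDegree, natTrailingDegree_eq_zero_of_constantCoeff_ne_zero, Nat.sub_zero,
    map_natDegree]
  rw [constantCoeff_apply]
  exact map_coeff_zero_ne hK h0

theorem inv_ne (hK : Fintype.card K = q ^ 2) {P : K[X]} (h0 : P.coeff 0 ≠ 0) :
    (powQ hK (P.coeff 0))⁻¹ ≠ 0 :=
  inv_ne_zero ((map_ne_zero (powQ hK)).2 h0)

theorem pow_q_sq (hK : Fintype.card K = q ^ 2) (x : K) : (x ^ q) ^ q = x := by
  rw [← pow_mul, ← sq, ← hK, FiniteField.pow_card]

end PkTL

open PkTL

theorem tl_one (hK : Fintype.card K = q ^ 2) : tl hK (1 : K[X]) = 1 := by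
  unfold tl
  rw [coeff_one_zero, map_one, inv_one, C_1, one_mul, Polynomial.map_one]
  have : (1 : K[X]) = C 1 := by simp
  rw [this, reverse_C]

theorem tl_natDegree (hK : Fintype.card K = q ^ 2) {P : K[X]} (h0 : P.coeff 0 ≠ 0) :
    (tl hK P).natDegree = P.natDegree := by
  unfold tl
  rw [natDegree_C_mul (inv_ne hK h0), rev_natDegree hK h0]

theorem tl_monic (hK : Fintype.card K = q ^ 2) {P : K[X]} (h0 : P.coeff 0 ≠ 0) : (tl hK P).Monic := by
  unfold tl Monic
  rw [leadingCoeff_mul, leadingCoeff_C, reverse_leadingCoeff, trailingCoeff,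
    natTrailingDegree_eq_zero_of_constantCoeff_ne_zero, coeff_map]
  · exact inv_mul_cancel₀ ((map_ne_zero (powQ hK)).2 h0)
  · rw [constantCoeff_apply]
    exact map_coeff_zero_ne hK h0

theorem tl_coeff (hK : Fintype.card K = q ^ 2) {P : K[X]} (h0 : P.coeff 0 ≠ 0) (i : ℕ)
    (hi : i ≤ P.natDegree) :
    (tl hK P).coeff i = ((P.coeff 0) ^ q)⁻¹ * (P.coeff (P.natDegree - i)) ^ q := by
  unfold tl
  rw [coeff_C_mul, coeff_reverse, map_natDegree, revAt_le hi, coeff_map]
  rfl

theorem tl_coeff_zero (hK : Fintype.card K = q ^ 2) {P : K[X]} (hP : P.Monic) (h0 : P.coeff 0 ≠ 0) :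
    (tl hK P).coeff 0 = ((P.coeff 0) ^ q)⁻¹ := by
  rw [tl_coeff hK h0 0 (Nat.zero_le _), Nat.sub_zero, coeff_natDegree, hP.leadingCoeff, one_pow,
    mul_one]

theorem tl_coeff_zero_ne (hK : Fintype.card K = q ^ 2) {P : K[X]} (h0 : P.coeff 0 ≠ 0) :
    (tl hK P).coeff 0 ≠ 0 := by
  rw [tl_coeff hK h0 0 (Nat.zero_le _), Nat.sub_zero, coeff_natDegree]
  have hP : P ≠ 0 := by
    rintro rfl
    simp at h0
  exact mul_ne_zero (inv_ne_zero (pow_ne_zero _ h0)) (pow_ne_zero _ (leadingCoeff_ne_zero.2 hP))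

theorem tl_mul (hK : Fintype.card K = q ^ 2) {P Q : K[X]} (hP : P.coeff 0 ≠ 0) (hQ : Q.coeff 0 ≠ 0) :
    tl hK (P * Q) = tl hK P * tl hK Q := by
  unfold tl
  rw [mul_coeff_zero, map_mul, mul_inv, C_mul, Polynomial.map_mul, reverse_mul_of_domain]
  ring

theorem pow_coeff_zero_ne {P : K[X]} (hP : P.coeff 0 ≠ 0) (k : ℕ) : (P ^ k).coeff 0 ≠ 0 := by
  rw [coeff_zero_eq_eval_zero, eval_pow, ← coeff_zero_eq_eval_zero]
  exact pow_ne_zero _ hP

theorem tl_pow (hK : Fintype.card K = q ^ 2) {P : K[X]} (hP : P.coeff 0 ≠ 0) (k : ℕ) :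
    tl hK (P ^ k) = tl hK P ^ k := by
  induction k with
  | zero => rw [pow_zero, pow_zero, tl_one]
  | succ k ih => rw [pow_succ, pow_succ, tl_mul hK (pow_coeff_zero_ne hP k) hP, ih]

theorem tl_multiset_prod (hK : Fintype.card K = q ^ 2) (s : Multiset K[X])
    (hs : ∀ P ∈ s, P.coeff 0 ≠ 0) : tl hK s.prod = (s.map (tl hK)).prod := by
  induction s using Multiset.induction_on with
  | empty => simp [tl_one]
  | cons a s ih =>
    have h1 : ∀ P ∈ s, P.coeff 0 ≠ 0 := fun P hP => hs P (Multiset.mem_cons_of_mem hP)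
    have h2 : s.prod.coeff 0 ≠ 0 := by
      rw [coeff_zero_eq_eval_zero, eval_multiset_prod]
      apply Multiset.prod_ne_zero
      intro h
      rw [Multiset.mem_map] at h
      obtain ⟨P, hP, hP0⟩ := h
      rw [← coeff_zero_eq_eval_zero] at hP0
      exact h1 P hP hP0
    rw [Multiset.prod_cons, Multiset.map_cons, Multiset.prod_cons,
      tl_mul hK (hs a (Multiset.mem_cons_self a s)) h2, ih h1]

theorem tl_tl (hK : Fintype.card K = q ^ 2) {P : K[X]} (hP : P.Monic) (h0 : P.coeff 0 ≠ 0) :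
    tl hK (tl hK P) = P := by
  have h0' := tl_coeff_zero_ne hK h0
  have hd := tl_natDegree hK h0
  ext i
  rcases Nat.lt_or_ge P.natDegree i with hi | hi
  · rw [coeff_eq_zero_of_natDegree_lt hi, coeff_eq_zero_of_natDegree_lt]
    rw [tl_natDegree hK h0', hd]
    exact hi
  · rw [tl_coeff hK h0' i (by rw [hd]; exact hi), hd, tl_coeff_zero hK hP h0,
      tl_coeff hK h0 (P.natDegree - i) (Nat.sub_le _ _), Nat.sub_sub_self hi, mul_pow, inv_pow,
      pow_q_sq hK, pow_q_sq hK, inv_inv, ← mul_assoc, mul_inv_cancel₀ h0, one_mul]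

theorem tl_irreducible (hK : Fintype.card K = q ^ 2) {P : K[X]} (hP : Irreducible P) (hPm : P.Monic)
    (h0 : P.coeff 0 ≠ 0) : Irreducible (tl hK P) := by
  have hdeg : 0 < P.natDegree := Polynomial.natDegree_pos_iff_degree_pos.2
    (Polynomial.degree_pos_of_irreducible hP)
  have hunit : ∀ A : K[X], A.coeff 0 ≠ 0 → IsUnit (tl hK A) → IsUnit A := by
    intro A hA hu
    have h1 := Polynomial.natDegree_eq_zero_of_isUnit hu
    rw [tl_natDegree hK hA] at h1
    have hA0 : A ≠ 0 := by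
      rintro rfl
      simp at hA
    rw [Polynomial.isUnit_iff]
    obtain ⟨c, hc⟩ := Polynomial.natDegree_eq_zero.1 h1
    refine ⟨c, ?_, hc⟩
    rw [isUnit_iff_ne_zero]
    rintro rfl
    apply hA0
    rw [← hc, C_0]
  constructor
  · intro hu
    have h1 := Polynomial.natDegree_eq_zero_of_isUnit hu
    rw [tl_natDegree hK h0] at h1
    omega
  · intro A B hAB
    have hAB0 : (A * B).coeff 0 ≠ 0 := by
      rw [← hAB]
      exact tl_coeff_zero_ne hK h0
    rw [mul_coeff_zero] at hAB0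
    have hA := left_ne_zero_of_mul hAB0
    have hB := right_ne_zero_of_mul hAB0
    have h1 : P = tl hK A * tl hK B := by
      rw [← tl_mul hK hA hB, ← hAB, tl_tl hK hPm h0]
    rcases hP.isUnit_or_isUnit h1 with h | h
    · exact Or.inl (hunit A hA h)
    · exact Or.inr (hunit B hB h)

/-- the adjoint of `P(A)` for a unitary `A` (`ct A = A⁻¹ = B`) -/
theorem ct_aeval (hK : Fintype.card K = q ^ 2) {n : ℕ} (A B : Matrix (Fin n) (Fin n) K)
    (hAB : A * B = 1) (hct : ct hK A = B) (P : K[X]) (h0 : P.coeff 0 ≠ 0) :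
    ct hK (aeval A P) = (P.coeff 0) ^ q • (B ^ P.natDegree * aeval A (tl hK P)) := by
  have hBA : B * A = 1 := mul_eq_one_comm.1 hAB
  have hpow : ∀ k : ℕ, ct hK (A ^ k) = B ^ k := by
    intro k
    induction k with
    | zero => rw [pow_zero, pow_zero, ct_one]
    | succ k ih => rw [pow_succ, ct_mul, ih, hct, pow_succ']
  have hsum : ∀ (s : Finset ℕ) (f : ℕ → Matrix (Fin n) (Fin n) K),
      ct hK (∑ i ∈ s, f i) = ∑ i ∈ s, ct hK (f i) := by
    intro s f
    classical
    induction s using Finset.induction_on with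
    | empty =>
      simp only [Finset.sum_empty]
      ext i j
      simp [ct]
    | insert a s ha ih => rw [Finset.sum_insert ha, Finset.sum_insert ha, ct_add, ih]
  -- the left side
  have h1 : ct hK (aeval A P) = ∑ i ∈ Finset.range (P.natDegree + 1), (P.coeff i) ^ q • B ^ i := by
    rw [aeval_eq_sum_range, hsum]
    apply Finset.sum_congr rfl
    intro i _
    rw [ct_smul, hpow]
  -- `B ^ d * A ^ i = B ^ (d - i)`
  have hBA' : ∀ i d : ℕ, i ≤ d → B ^ d * A ^ i = B ^ (d - i) := by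
    intro i
    induction i with
    | zero => intro d _; rw [pow_zero, mul_one, Nat.sub_zero]
    | succ i ih =>
      intro d hd
      obtain ⟨d', rfl⟩ : ∃ d', d = d' + 1 := ⟨d - 1, by omega⟩
      rw [pow_succ B, pow_succ' A, mul_assoc, ← mul_assoc B A, hBA, one_mul, ih d' (by omega)]
      congr 1
      omega
  -- the right side
  have h2 : aeval A (tl hK P) = ∑ i ∈ Finset.range (P.natDegree + 1),
      (((P.coeff 0) ^ q)⁻¹ * (P.coeff (P.natDegree - i)) ^ q) • A ^ i := by
    rw [aeval_eq_sum_range, tl_natDegree hK h0]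
    apply Finset.sum_congr rfl
    intro i hi
    rw [tl_coeff hK h0 i (by rw [Finset.mem_range] at hi; omega)]
  rw [h1, h2, Finset.mul_sum, Finset.smul_sum, ← Finset.sum_range_reflect]
  apply Finset.sum_congr rfl
  intro i hi
  rw [Finset.mem_range] at hi
  rw [Matrix.mul_smul, hBA' _ _ (by omega), smul_smul, ← mul_assoc,
    mul_inv_cancel₀ (pow_ne_zero _ h0), one_mul]
  have e1 : P.natDegree + 1 - 1 - i = P.natDegree - i := by omega
  rw [e1]

end Cfsg.Agent.Lib.Helper4.SUClass
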