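import Mathlib
import Cfsg.Agent.Lib.Helper4.SUClass.Defs
import Cfsg.Agent.Lib.Helper5.SLClass.UniqueGL
import Cfsg.Agent.Lib.Helper5.SLClass.TypeSL
import Cfsg.Agent.Lib.Helper5.SLClass.Norm
import Cfsg.Agent.Lib.Helper2.SLClass_C3
import Cfsg.Agent.S2587
import Cfsg.Agent.Lib.Helper4.SUClass.TL
import Cfsg.Agent.Lib.Helper6.SUClass_MU
import Cfsg.Agent.Lib.Helper3.SUClass_UD2
import Cfsg.Agent.Lib.Helper7.SUClass_UT1
import Cfsg.Agent.Lib.Helper5.SUClass_CNT
import Cfsg.Agent.Lib.Helper5.SUClass_U4b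
import Cfsg.Agent.Lib.Helper7.SUClass_UL
import Cfsg.Agent.Lib.Helper3.SUClass_UD1
import Cfsg.Agent.Lib.Helper6.SUClass_UN
import Cfsg.Agent.Lib.Helper2.SUClass_U4a
import Cfsg.Agent.Lib.Helper9.SUClass_UD3

set_option autoImplicit false
set_option linter.unusedSectionVars false
set_option linter.unusedVariables false

namespace Cfsg.Agent.Lib.Helper4.SUClass

open Polynomial Cfsg.Agent.S0278 Cfsg.Agent.Lib.Helper5.GLClass Cfsg.Agent.Lib.Helper5.SLClass
open Cfsg.Agent.Lib.Helper5.Wall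

universe u

variable {K : Type u} [Field K] [Fintype K] {q : ℕ}

/-! ## ASSEMBLY (helper4) -/
section ASM

theorem exists_unitary_commute_block (hK : Fintype.card K = q ^ 2) {n : ℕ}
    (g : Matrix.GeneralLinearGroup (Fin n) K) (hg : g ∈ Cfsg.GU n K q)
    {m : Multiset (K[X] × ℕ)} (hm : IsType g m) (x : K[X] × ℕ) (hx : x ∈ m) (u : Kˣ)
    (hu : u ^ (q + 1) = 1) :
    ∃ y : Matrix.GeneralLinearGroup (Fin n) K, y ∈ Cfsg.GU n K q ∧ Commute y g ∧
      Matrix.GeneralLinearGroup.det y = u ^ x.2 := by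
  obtain ⟨hgood, h0, _⟩ := hm.facts
  obtain ⟨hirr, hmon, he1, _⟩ := hgood x hx
  have hx0 := h0 x hx
  obtain ⟨c, hc⟩ := exists_div_pow_eq hK u hu
  have hvw : ∃ v w : Fin n → K, aeval (Matrix.toLin' g.val) (x.1 ^ x.2) v = 0 ∧
      aeval (Matrix.toLin' g.val) ((tl hK x.1) ^ x.2) w = 0 ∧
      Cfsg.hermForm n K q (aeval (Matrix.toLin' g.val) (x.1 ^ (x.2 - 1)) v) w ≠ 0 ∧
      (tl hK x.1 ≠ x.1 ∨ w = v) := by
    by_cases hself : tl hK x.1 = x.1
    · obtain ⟨v, hv, hvv⟩ := exists_self hK g hg hm x.1 x.2 hx hself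
      exact ⟨v, v, hv, by rw [hself]; exact hv, hvv, Or.inr rfl⟩
    · obtain ⟨v, w, hv, hw, hvw⟩ := exists_pair hK g hg hm x.1 x.2 hx
      exact ⟨v, w, hv, hw, hvw, Or.inl hself⟩
  obtain ⟨v, w, hv, hw, hvw, hcase⟩ := hvw
  obtain ⟨W, P, hPW, hWinv, hnd, hdet⟩ := exists_block_subspace hK g hg x.1 hirr hmon hx0 x.2 he1
    v w hv hw hvw hcase (c : K) c.ne_zero
  obtain ⟨y, hy, hcomm, hdety⟩ := exists_unitary_of_nondeg hK g hg W hWinv hnd P hPW
    ((c : K) ^ x.2) (pow_ne_zero _ c.ne_zero) hdet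
  refine ⟨y, hy, hcomm, ?_⟩
  apply Units.ext
  rw [Units.val_pow_eq_pow_val]
  have hc' : (c : K) = (u : K) * (c : K) ^ q := by
    have := congrArg Units.val hc
    simpa using this
  have h1 : ((Matrix.GeneralLinearGroup.det y : Kˣ) : K) * ((c : K) ^ x.2) ^ q =
      (u : K) ^ x.2 * ((c : K) ^ x.2) ^ q := by
    rw [hdety]
    conv_lhs => rw [hc']
    ring
  exact mul_right_cancel₀ (pow_ne_zero _ (pow_ne_zero _ c.ne_zero)) h1

theorem exists_unitary_commute_gcd (hK : Fintype.card K = q ^ 2) {n : ℕ}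
    (g : Matrix.GeneralLinearGroup (Fin n) K) (hg : g ∈ Cfsg.GU n K q)
    {m : Multiset (K[X] × ℕ)} (hm : IsType g m) (u : Kˣ) (hu : u ^ (q + 1) = 1)
    (s : Finset (K[X] × ℕ)) (hs : ∀ x ∈ s, x ∈ m) :
    ∃ y : Matrix.GeneralLinearGroup (Fin n) K, y ∈ Cfsg.GU n K q ∧ Commute y g ∧
      Matrix.GeneralLinearGroup.det y = u ^ (s.gcd Prod.snd) := by
  classical
  induction s using Finset.induction_on with
  | empty =>
    refine ⟨1, Subgroup.one_mem _, Commute.one_left g, ?_⟩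
    simp
  | insert x s hxs ih =>
    obtain ⟨y₁, hy₁, hc₁, hd₁⟩ := ih (fun z hz => hs z (Finset.mem_insert_of_mem hz))
    obtain ⟨y₂, hy₂, hc₂, hd₂⟩ := exists_unitary_commute_block hK g hg hm x
      (hs x (Finset.mem_insert_self x s)) u hu
    rw [Finset.gcd_insert]
    refine ⟨y₂ ^ (Nat.gcdA x.2 (s.gcd Prod.snd)) * y₁ ^ (Nat.gcdB x.2 (s.gcd Prod.snd)),
      Subgroup.mul_mem _ (Subgroup.zpow_mem _ hy₂ _) (Subgroup.zpow_mem _ hy₁ _),
      (hc₂.zpow_left _).mul_left (hc₁.zpow_left _), ?_⟩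
    rw [map_mul, map_zpow, map_zpow, hd₁, hd₂, ← zpow_natCast, ← zpow_natCast, ← zpow_mul,
      ← zpow_mul, ← zpow_add, ← zpow_natCast]
    congr 1
    have := Nat.gcd_eq_gcd_ab x.2 (s.gcd Prod.snd)
    simp only [GCDMonoid.gcd] at this ⊢
    rw [this]

theorem exists_unitary_commute_gg (hK : Fintype.card K = q ^ 2) {n : ℕ}
    (g : Matrix.GeneralLinearGroup (Fin n) K) (hg : g ∈ Cfsg.GU n K q)
    {m : Multiset (K[X] × ℕ)} (hm : IsType g m) (u : Kˣ) (hu : u ^ (q + 1) = 1) :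
    ∃ y : Matrix.GeneralLinearGroup (Fin n) K, y ∈ Cfsg.GU n K q ∧ Commute y g ∧
      Matrix.GeneralLinearGroup.det y = u ^ gg (seqOf n m) := by
  classical
  obtain ⟨y, hy, hc, hd⟩ := exists_unitary_commute_gcd hK g hg hm u hu m.toFinset
    (fun x hx => Multiset.mem_toFinset.1 hx)
  have hdvd : m.toFinset.gcd Prod.snd ∣ gg (seqOf n m) := by
    unfold gg
    apply Finset.dvd_gcd
    intro j hj
    rw [Finset.mem_filter] at hj
    have hne : m.filter (fun x => x.2 = j.val + 1) ≠ 0 := by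
      intro h0
      apply hj.2
      unfold seqOf
      rw [h0]
      simp
    obtain ⟨x, hx⟩ := Multiset.exists_mem_of_ne_zero hne
    rw [Multiset.mem_filter] at hx
    rw [← hx.2]
    exact Finset.gcd_dvd (Multiset.mem_toFinset.2 hx.1)
  obtain ⟨k, hk⟩ := hdvd
  refine ⟨y ^ k, Subgroup.pow_mem _ hy _, hc.pow_left _, ?_⟩
  rw [map_pow, hd, hk, pow_mul]

/-- **the refined type map for the unitary groups** -/
theorem exists_type_map_su (hK : Fintype.card K = q ^ 2) (n : ℕ) :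
    ∃ Φ : Matrix.GeneralLinearGroup (Fin n) K → (Fin n → K[X]),
      (∀ g, Φ g ∈ Par K n n) ∧ (∀ g h, Φ g = Φ h → IsConj g h) ∧
      (∀ g, g.val.det = dt (Φ g)) ∧
      (∀ g, g ∈ Cfsg.GU n K q → ∀ j, tl hK (Φ g j) = Φ g j) ∧
      (∀ g, g ∈ Cfsg.GU n K q → ∀ u : Kˣ, u ^ (q + 1) = 1 →
        ∃ y : Matrix.GeneralLinearGroup (Fin n) K, y ∈ Cfsg.GU n K q ∧ Commute y g ∧
          Matrix.GeneralLinearGroup.det y = u ^ gg (Φ g)) := by
  classical
  choose m hm using fun g : Matrix.GeneralLinearGroup (Fin n) K => exists_isType g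
  refine ⟨fun g => seqOf n (m g), ?_, ?_, ?_, ?_, ?_⟩
  · intro g
    obtain ⟨h1, h2, h3⟩ := (hm g).facts
    exact seqOf_mem_Par n (m g) h1 h2 h3
  · intro g h hgh
    have e : m g = m h := seqOf_injective n (hm g).facts.1 (hm h).facts.1 hgh
    have hh := hm h
    rw [← e] at hh
    exact (hm g).isConj hh
  · intro g
    exact isType_det_eq (hm g)
  · intro g hg j
    exact seqOf_tl hK g hg (hm g) j
  · intro g hg u hu
    exact exists_unitary_commute_gg hK g hg (hm g) u hu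

theorem su_card_le (hK : Fintype.card K = q ^ 2) (n : ℕ) (hn : 1 ≤ n) :
    (q + 1) * Nat.card (ConjClasses ↥(Cfsg.SU n K q)) ≤
      ∑ yz : ↥(muQ K q) × ↥(muQ K q), PLU q n (Nat.lcm (orderOf yz.1) (orderOf yz.2)) := by
  classical
  obtain ⟨Φ, hPar, hconj, hdet, htl, hcent⟩ := exists_type_map_su hK n
  have hK' := card_conjClasses_le_sum (S := ↥(Cfsg.SU n K q)) (G := ↥(Cfsg.GU n K q))
    (T := ↥(muQ K q)) (suToGU n K q)
    (by
      intro a b hab
      have h1 := congrArg (fun x : ↥(Cfsg.GU n K q) =>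
        (x : Matrix.GeneralLinearGroup (Fin n) K)) hab
      simp only [suToGU_coe] at h1
      exact Subtype.ext (Matrix.SpecialLinearGroup.toGL_injective h1))
    (detU hK n)
    (by
      intro g hg
      have h1 : (g : Matrix.GeneralLinearGroup (Fin n) K).val.det = 1 := by
        have h2 := congrArg (fun x : ↥(muQ K q) => ((x : Kˣ) : K)) hg
        simpa [detU_coe] using h2
      refine ⟨⟨⟨(g : Matrix.GeneralLinearGroup (Fin n) K).val, h1⟩, fun u v => g.2 u v⟩, ?_⟩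
      apply Subtype.ext
      rw [suToGU_coe]
      ext
      rfl)
    (fun g : ↥(Cfsg.GU n K q) => Φ (g : Matrix.GeneralLinearGroup (Fin n) K))
    (by
      intro g h hgh
      exact (Cfsg.Agent.S2587.result hK g h).2 (hconj _ _ hgh))
    gg
    (by
      intro g u
      obtain ⟨y, hy, hyc, hyd⟩ := hcent (g : Matrix.GeneralLinearGroup (Fin n) K) g.2 (u : Kˣ)
        ((mem_muQ _).1 u.2)
      refine ⟨⟨y, hy⟩, ?_, ?_⟩
      · apply Subtype.ext
        exact hyc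
      · apply Subtype.ext
        rw [detU_coe]
        simpa using hyd)
    ((parUFinset hK n).filter (fun f => dt f = 1))
    (by
      intro s
      rw [Finset.mem_filter, mem_parUFinset]
      refine ⟨⟨hPar _, htl _ (suToGU n K q s).2⟩, ?_⟩
      rw [← hdet, suToGU_coe]
      exact s.1.2)
  rw [card_muQ hK] at hK'
  calc (q + 1) * Nat.card (ConjClasses ↥(Cfsg.SU n K q))
      ≤ (q + 1) * ∑ f ∈ (parUFinset hK n).filter (fun f => dt f = 1),
          Nat.gcd (gg f) (q + 1) := Nat.mul_le_mul_left _ hK'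
    _ ≤ ∑ f ∈ parUFinset hK n, Nat.gcd (gg f) (q + 1) ^ 2 := by
        convert card_mul_sum_le_u hK n
    _ ≤ _ := sum_sq_le_u hK n hn

theorem su_conjClasses_bounds (hK : Fintype.card K = q ^ 2) (n : ℕ) (hn : 2 ≤ n) :
    q ^ (n - 1) ≤ Nat.card (ConjClasses ↥(Cfsg.SU n K q)) ∧
      100 * Nat.card (ConjClasses ↥(Cfsg.SU n K q)) ≤ 826 * q ^ (n - 1) := by
  classical
  have hq : 2 ≤ q := Cfsg.Agent.Lib.Helper1.HermCount.two_le_q hK
  refine ⟨le_card_conjClasses_su hK n (by omega), ?_⟩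
  have h1 := su_card_le hK n (by omega)
  have h2 := pairs_sum_le_u (T := ↥(muQ K q)) q n hq (card_muQ hK) hn
  have h3 : (q + 1) * (100 * Nat.card (ConjClasses ↥(Cfsg.SU n K q))) ≤
      (q + 1) * (826 * q ^ (n - 1)) := by
    calc _ = 100 * ((q + 1) * Nat.card (ConjClasses ↥(Cfsg.SU n K q))) := by ring
      _ ≤ 100 * _ := Nat.mul_le_mul_left _ h1
      _ ≤ 826 * ((q + 1) * q ^ (n - 1)) := h2
      _ = _ := by ring
  exact Nat.le_of_mul_le_mul_left h3 (by omega)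

end ASM

end Cfsg.Agent.Lib.Helper4.SUClass
#check @Cfsg.Agent.Lib.Helper4.SUClass.su_conjClasses_bounds
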